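import Groth.Agent.EGA43Sep.Alg
import Groth.Agent.DescentBase.El
import Groth.Agent.QCohMod.Sections
import Groth.Agent.QCohMod.PullbackSections
import Groth.Agent.Divisors.QCohLoc

/-!
Separating families of homomorphisms of quasi-coherent modules: sections over affine opens.
-/

set_option autoImplicit false
set_option backward.isDefEq.respectTransparency.types false
universe u

open CategoryTheory Limits AlgebraicGeometry Opposite TopologicalSpace TensorProduct

namespace Groth.EGA43Sep

open Groth.QCohMod (res res_res res_app res_smul germ germ_res sectionsAlg pullSecTensor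
  pullSecTensor_tmul pullSecTensor_bijective)
open Groth.PicAux (pullSec pullSec_map)

variable {X Y : Scheme.{u}} {F : X.Modules} {ι : Type u} {G : ι → X.Modules}

/-- The map on sections, linear over the ring of sections. -/
noncomputable def secMap {M N : X.Modules} (φ : M ⟶ N) (U : X.Opens) :
    Γ(M, U) →ₗ[Γ(X, U)] Γ(N, U) where
  toFun := φ.app U
  map_add' := map_add _
  map_smul' r m := Scheme.Modules.Hom.app_smul φ r m

theorem secMap_apply {M N : X.Modules} (φ : M ⟶ N) (U : X.Opens) (m : Γ(M, U)) :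
    secMap φ U m = φ.app U m := rfl

theorem eq_zero_of_pow_smul_eq_zero_of_basicOpen (M : X.Modules) {U : X.Opens} (f : Γ(X, U))
    (m : Γ(M, U)) {n : ℕ} (h : f ^ n • m = 0) : res M (X.basicOpen_le f) m = 0 := by
  have hu : IsUnit (X.presheaf.map (homOfLE (X.basicOpen_le f)).op f) :=
    X.toRingedSpace.isUnit_res_basicOpen f
  have h2 := congrArg (res M (X.basicOpen_le f)) h
  rw [res_smul, map_zero, map_pow] at h2
  exact (hu.pow n).smul_eq_zero.1 h2

/-- On an affine open a separating family is separating on every basic open. -/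
theorem sep_sections [F.IsQuasicoherent] (u : ∀ i, F ⟶ G i)
    (h : ∀ (V : X.Opens) (t : Γ(F, V)), (∀ i, (u i).app V t = 0) → t = 0)
    {U : X.Opens} (hU : IsAffineOpen U) : Sep fun i => secMap (u i) U := by
  intro a m hm
  refine Groth.QCohMod.exists_pow_smul_eq_zero F hU a m (h _ _ fun i => ?_)
  obtain ⟨n, hn⟩ := hm i
  rw [← res_app]
  exact eq_zero_of_pow_smul_eq_zero_of_basicOpen (G i) a _ hn

variable (g : Y ⟶ X) {U : X.Opens} {W : Y.Opens} (e : W ≤ g ⁻¹ᵁ U)

theorem app_pullSecTensor {M N : X.Modules} (φ : M ⟶ N) :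
    letI := sectionsAlg g e
    ∀ z : Γ(Y, W) ⊗[Γ(X, U)] Γ(M, U),
      ((Scheme.Modules.pullback g).map φ).app W (pullSecTensor g M e z) =
        pullSecTensor g N e ((secMap φ U).lTensor Γ(Y, W) z) := by
  let _ := sectionsAlg g e
  intro z
  induction z using TensorProduct.induction_on with
  | zero => simp
  | tmul b m =>
    rw [LinearMap.lTensor_tmul, pullSecTensor_tmul, pullSecTensor_tmul,
      Scheme.Modules.Hom.app_smul, ← res_app, pullSec_map]
    rfl
  | add p q hp hq => simp only [map_add, hp, hq]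

/-- Pointwise separation of the pulled back family from the algebra of sections over `W`. -/
theorem germ_eq_zero_of_sep [F.IsQuasicoherent] [∀ i, (G i).IsQuasicoherent]
    [((Scheme.Modules.pullback g).obj F).IsQuasicoherent]
    [∀ i, ((Scheme.Modules.pullback g).obj (G i)).IsQuasicoherent]
    (u : ∀ i, F ⟶ G i) (hU : IsAffineOpen U) (hW : IsAffineOpen W)
    (H : letI := sectionsAlg g e
      ∀ (f : Γ(Y, W)) (z : Γ(Y, W) ⊗[Γ(X, U)] Γ(F, U)),
        (∀ i, ∃ n : ℕ, f ^ n • (secMap (u i) U).lTensor Γ(Y, W) z = 0) →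
          ∃ n : ℕ, f ^ n • z = 0)
    {V : Y.Opens} (t : Γ((Scheme.Modules.pullback g).obj F, V))
    (ht : ∀ i, ((Scheme.Modules.pullback g).map (u i)).app V t = 0)
    (y : Y) (hyW : y ∈ W) (hyV : y ∈ V) :
    germ ((Scheme.Modules.pullback g).obj F) y hyV t = 0 := by
  let _ := sectionsAlg g e
  obtain ⟨f, hfV, hyf⟩ :=
    hW.exists_basicOpen_le (V := V) ⟨y, hyV⟩ hyW
  have hfV' : Y.basicOpen f ≤ V := hfV
  obtain ⟨n, s, hs⟩ := Groth.Divisors.exists_pow_smul_eq_res hW
    (inferInstanceAs ((Scheme.Modules.pullback g).obj F).IsQuasicoherent) f (res ((Scheme.Modules.pullback g).obj F) hfV' t)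
  obtain ⟨z, hz⟩ := (pullSecTensor_bijective g F e hU hW).2 s
  have hs' : res ((Scheme.Modules.pullback g).obj F) (Y.basicOpen_le f) s =
      Y.presheaf.map (homOfLE (Y.basicOpen_le f)).op f ^ n • res ((Scheme.Modules.pullback g).obj F) hfV' t := hs
  obtain ⟨k, hk⟩ := H f z fun i => by
    obtain ⟨k, hk⟩ := Groth.QCohMod.exists_pow_smul_eq_zero ((Scheme.Modules.pullback g).obj (G i))
      hW f (((Scheme.Modules.pullback g).map (u i)).app W s) (by
        rw [res_app, hs', Scheme.Modules.Hom.app_smul, ← res_app, ht i, map_zero, smul_zero])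
    refine ⟨k, (pullSecTensor_bijective g (G i) e hU hW).1 ?_⟩
    rw [map_zero, map_smul, ← app_pullSecTensor, hz]
    exact hk
  have h0 : f ^ k • s = 0 := by rw [← hz, ← map_smul, hk, map_zero]
  have h1 := eq_zero_of_pow_smul_eq_zero_of_basicOpen ((Scheme.Modules.pullback g).obj F) f s h0
  rw [hs'] at h1
  have h2 : res ((Scheme.Modules.pullback g).obj F) hfV' t = 0 :=
    ((show IsUnit (Y.presheaf.map (homOfLE (Y.basicOpen_le f)).op f) from
      Y.toRingedSpace.isUnit_res_basicOpen f).pow n).smul_eq_zero.1 h1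
  rw [← germ_res ((Scheme.Modules.pullback g).obj F) hfV' y hyf t, h2, map_zero]

end Groth.EGA43Sep
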