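import Groth.Agent.EGA43Sep.Fibre
import Groth.Agent.EGA43Sep.Sheaf
import Groth.Agent.Flatmor4.FlatModAffine
import Mathlib.AlgebraicGeometry.Fiber

/-!
Separating families and base change: translation to sections over affine opens.
-/

set_option autoImplicit false
set_option backward.isDefEq.respectTransparency.types false
universe u

open CategoryTheory Limits AlgebraicGeometry Opposite TopologicalSpace TensorProduct

namespace Groth.EGA43Sep

open Groth.QCohMod (res res_res res_app res_smul germ germ_res sectionsAlg pullSecTensor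
  pullSecTensor_tmul pullSecTensor_bijective)
open Groth.PicAux (pullSec pullSec_map)

variable {X Y : Scheme.{u}} {F : X.Modules} {ι : Type u} {G : ι → X.Modules}

/-- A separating pulled back family is separating on sections. -/
theorem sepAlg_of_separating_pullback (g : Y ⟶ X) [F.IsQuasicoherent]
    [∀ i, (G i).IsQuasicoherent] [((Scheme.Modules.pullback g).obj F).IsQuasicoherent]
    (u : ∀ i, F ⟶ G i)
    (h : ∀ (V : Y.Opens) (t : Γ((Scheme.Modules.pullback g).obj F, V)),
      (∀ i, ((Scheme.Modules.pullback g).map (u i)).app V t = 0) → t = 0)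
    {U : X.Opens} {W : Y.Opens} (e : W ≤ g ⁻¹ᵁ U) (hU : IsAffineOpen U) (hW : IsAffineOpen W) :
    letI := sectionsAlg g e
    SepAlg (fun i => secMap (u i) U) Γ(Y, W) := by
  let _ := sectionsAlg g e
  intro f z hz
  obtain ⟨n, hn⟩ := sep_sections (fun i => (Scheme.Modules.pullback g).map (u i)) h hW f
    (pullSecTensor g F e z) fun i => by
      obtain ⟨n, hn⟩ := hz i
      refine ⟨n, ?_⟩
      rw [secMap_apply, app_pullSecTensor, ← map_smul, hn, map_zero]
  exact ⟨n, (pullSecTensor_bijective g F e hU hW).1 (by rw [map_smul, hn, map_zero])⟩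

section Square

variable {S S' : Scheme.{u}} (p : X ⟶ S) (q : S' ⟶ S) {U : X.Opens} {V : S.Opens} {W : S'.Opens}
  (e₁ : U ≤ p ⁻¹ᵁ V) (e₂ : W ≤ q ⁻¹ᵁ V)

/-- The open of the fibre product over `U` and `W`. -/
noncomputable def prodOpen (U : X.Opens) (W : S'.Opens) : (pullback p q).Opens :=
  pullback.fst p q ⁻¹ᵁ U ⊓ pullback.snd p q ⁻¹ᵁ W

theorem prodOpen_le (U : X.Opens) (W : S'.Opens) :
    prodOpen p q U W ≤ pullback.fst p q ⁻¹ᵁ U := inf_le_left

variable (hV : IsAffineOpen V) (hW : IsAffineOpen W) (hU : IsAffineOpen U)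
include e₁ e₂ hV hW hU

theorem isAffineOpen_prodOpen : IsAffineOpen (prodOpen p q U W) := by
  have : IsAffine _ := hV
  have : IsAffine _ := hW
  have : IsAffine _ := hU
  exact .of_isIso (Scheme.Hom.isPullback_resLE (IsPullback.of_hasPullback p q)
    (US := V) (UT := W) (UX := U) e₂ e₁ rfl).isoPullback.hom

/-- Sections of the fibre product over affine opens, as a tensor product. -/
theorem nonempty_algEquiv_prodOpen :
    letI := (p.appLE V U e₁).hom.toAlgebra
    letI := (q.appLE V W e₂).hom.toAlgebra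
    letI := sectionsAlg (pullback.fst p q) (prodOpen_le p q U W)
    Nonempty (Γ(X, U) ⊗[Γ(S, V)] Γ(S', W) ≃ₐ[Γ(X, U)] Γ(pullback p q, prodOpen p q U W)) := by
  have hpush := (isIso_pushoutSection_iff (IsPullback.of_hasPullback p q)
    (US := V) (UT := W) (UX := U) (UY := prodOpen p q U W) e₂ e₁ rfl).1
    (isIso_pushoutSection_of_isAffineOpen (IsPullback.of_hasPullback p q) e₂ e₁ rfl hV hW hU)
  let _ := (p.appLE V U e₁).hom.toAlgebra
  let _ := (q.appLE V W e₂).hom.toAlgebra
  let _ := sectionsAlg (pullback.fst p q) (prodOpen_le p q U W)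
  let _ : Algebra Γ(S', W) Γ(pullback p q, prodOpen p q U W) :=
    ((pullback.snd p q).appLE W (prodOpen p q U W) inf_le_right).hom.toAlgebra
  let _ : Algebra Γ(S, V) Γ(pullback p q, prodOpen p q U W) :=
    ((p.appLE V U e₁) ≫
      (pullback.fst p q).appLE U (prodOpen p q U W) (prodOpen_le p q U W)).hom.toAlgebra
  have : IsScalarTower Γ(S, V) Γ(X, U) Γ(pullback p q, prodOpen p q U W) :=
    IsScalarTower.of_algebraMap_eq fun _ => rfl
  have : IsScalarTower Γ(S, V) Γ(S', W) Γ(pullback p q, prodOpen p q U W) :=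
    IsScalarTower.of_algebraMap_eq fun r => congrArg (fun φ => φ.hom r) hpush.w
  have : Algebra.IsPushout Γ(S, V) Γ(X, U) Γ(S', W) Γ(pullback p q, prodOpen p q U W) :=
    CommRingCat.isPushout_iff_isPushout.1 hpush
  exact ⟨Algebra.IsPushout.equiv Γ(S, V) Γ(X, U) Γ(S', W) Γ(pullback p q, prodOpen p q U W)⟩

theorem sepAlg_tensor_of_separating_pullback [F.IsQuasicoherent] [∀ i, (G i).IsQuasicoherent]
    [((Scheme.Modules.pullback (pullback.fst p q)).obj F).IsQuasicoherent] (u : ∀ i, F ⟶ G i)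
    (h : ∀ (O : (pullback p q).Opens)
      (t : Γ((Scheme.Modules.pullback (pullback.fst p q)).obj F, O)),
      (∀ i, ((Scheme.Modules.pullback (pullback.fst p q)).map (u i)).app O t = 0) → t = 0) :
    letI := (p.appLE V U e₁).hom.toAlgebra
    letI := (q.appLE V W e₂).hom.toAlgebra
    SepAlg (fun i => secMap (u i) U) (Γ(X, U) ⊗[Γ(S, V)] Γ(S', W)) := by
  let _ := (p.appLE V U e₁).hom.toAlgebra
  let _ := (q.appLE V W e₂).hom.toAlgebra
  let _ := sectionsAlg (pullback.fst p q) (prodOpen_le p q U W)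
  obtain ⟨ε⟩ := nonempty_algEquiv_prodOpen p q e₁ e₂ hV hW hU
  exact (sepAlg_of_separating_pullback (pullback.fst p q) u h (prodOpen_le p q U W) hU
    (isAffineOpen_prodOpen p q e₁ e₂ hV hW hU)).of_algEquiv ε.symm

theorem germ_eq_zero_of_sepAlg_tensor [F.IsQuasicoherent] [∀ i, (G i).IsQuasicoherent]
    [((Scheme.Modules.pullback (pullback.fst p q)).obj F).IsQuasicoherent]
    [∀ i, ((Scheme.Modules.pullback (pullback.fst p q)).obj (G i)).IsQuasicoherent]
    (u : ∀ i, F ⟶ G i)
    (h : letI := (p.appLE V U e₁).hom.toAlgebra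
      letI := (q.appLE V W e₂).hom.toAlgebra
      SepAlg (fun i => secMap (u i) U) (Γ(X, U) ⊗[Γ(S, V)] Γ(S', W)))
    {O : (pullback p q).Opens} (t : Γ((Scheme.Modules.pullback (pullback.fst p q)).obj F, O))
    (ht : ∀ i, ((Scheme.Modules.pullback (pullback.fst p q)).map (u i)).app O t = 0)
    (y : ↥(pullback p q)) (hy₁ : pullback.fst p q y ∈ U) (hy₂ : pullback.snd p q y ∈ W)
    (hy : y ∈ O) : germ ((Scheme.Modules.pullback (pullback.fst p q)).obj F) y hy t = 0 := by
  let _ := (p.appLE V U e₁).hom.toAlgebra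
  let _ := (q.appLE V W e₂).hom.toAlgebra
  let _ := sectionsAlg (pullback.fst p q) (prodOpen_le p q U W)
  obtain ⟨ε⟩ := nonempty_algEquiv_prodOpen p q e₁ e₂ hV hW hU
  exact germ_eq_zero_of_sep (pullback.fst p q) (prodOpen_le p q U W) u hU
    (isAffineOpen_prodOpen p q e₁ e₂ hV hW hU) (h.of_algEquiv ε) t ht y ⟨hy₁, hy₂⟩ hy

end Square

section Fibre

variable {S : Scheme.{u}} (p : X ⟶ S) {U : X.Opens} {V : S.Opens} (e₁ : U ≤ p ⁻¹ᵁ V)

/-- Separation on the fibres gives separation after any extension to a field. -/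
theorem sepAlg_field_of_fibres [F.IsQuasicoherent] [∀ i, (G i).IsQuasicoherent]
    [∀ s, ((Scheme.Modules.pullback (p.fiberι s)).obj F).IsQuasicoherent] (u : ∀ i, F ⟶ G i)
    (h : ∀ (s : S) (O : (p.fiber s).Opens)
      (t : Γ((Scheme.Modules.pullback (p.fiberι s)).obj F, O)),
      (∀ i, ((Scheme.Modules.pullback (p.fiberι s)).map (u i)).app O t = 0) → t = 0)
    (hV : IsAffineOpen V) (hU : IsAffineOpen U) (L : Type u) [Field L] [Algebra Γ(S, V) L] :
    letI := (p.appLE V U e₁).hom.toAlgebra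
    SepAlg (fun i => secMap (u i) U) (Γ(X, U) ⊗[Γ(S, V)] L) := by
  let _ := (p.appLE V U e₁).hom.toAlgebra
  let φ : Γ(S, V) ⟶ CommRingCat.of L := CommRingCat.ofHom (algebraMap Γ(S, V) L)
  let g : Spec (CommRingCat.of L) ⟶ S := Spec.map φ ≫ hV.fromSpec
  obtain ⟨⟨s, ψ⟩, hsψ⟩ : ∃ w : (s : S) × (S.residueField s ⟶ CommRingCat.of L),
      Spec.map w.2 ≫ S.fromSpecResidueField w.1 = g :=
    ⟨Scheme.SpecToEquivOfField L S g, (Scheme.SpecToEquivOfField L S).left_inv g⟩
  let F₀ := S.fromSpecResidueField s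
  have hsV : s ∈ V := by
    obtain ⟨x₀⟩ : Nonempty ↥(Spec (CommRingCat.of L)) := inferInstance
    have h1 : g x₀ ∈ V := by
      have : hV.fromSpec (Spec.map φ x₀) ∈ (V : Set S) :=
        hV.range_fromSpec ▸ Set.mem_range_self _
      exact this
    rw [← hsψ] at h1
    simpa using h1
  have e₂ : (⊤ : (Spec (S.residueField s)).Opens) ≤ F₀ ⁻¹ᵁ V := fun x _ => by
    show F₀ x ∈ V
    rw [Scheme.fromSpecResidueField_apply]
    exact hsV
  let _ := (F₀.appLE V ⊤ e₂).hom.toAlgebra
  have hC := sepAlg_tensor_of_separating_pullback p F₀ e₁ e₂ hV (isAffineOpen_top _) hU u (h s)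
  -- the residue field at `s` maps to `L`
  let θ : Γ(Spec (S.residueField s), ⊤) ⟶ CommRingCat.of L :=
    (Scheme.ΓSpecIso (S.residueField s)).hom ≫ ψ
  have hθ : F₀.appLE V ⊤ e₂ ≫ θ = φ := by
    have hat : ∀ {P Q : Scheme.{u}} (k : P ⟶ Q), k.appTop = k.appLE ⊤ ⊤ le_top :=
      fun k => Scheme.Hom.app_eq_appLE k
    have h1 : F₀.appLE V ⊤ e₂ ≫ (Spec.map ψ).appTop =
        φ ≫ (Scheme.ΓSpecIso (CommRingCat.of L)).inv := by
      rw [hat, Scheme.Hom.appLE_comp_appLE]
      have h2 : (Spec.map ψ ≫ F₀).appLE V ⊤ (fun x _ => e₂ (x := Spec.map ψ x) trivial) =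
          (Spec.map φ ≫ hV.fromSpec).appLE V ⊤ (fun x _ => by
            show hV.fromSpec (Spec.map φ x) ∈ (V : Set S)
            exact hV.range_fromSpec ▸ Set.mem_range_self _) := by
        congr 1
      refine Eq.trans ?_ (h2.trans ?_)
      · rfl
      rw [← Scheme.Hom.appLE_comp_appLE (Spec.map φ) hV.fromSpec V ⊤ ⊤
        (by rw [hV.fromSpec_preimage_self]) le_top]
      have h3 : hV.fromSpec.appLE V ⊤ (by rw [hV.fromSpec_preimage_self]) =
          (Scheme.ΓSpecIso Γ(S, V)).inv := by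
        rw [Scheme.Hom.appLE, hV.fromSpec_app_self, Category.assoc, ← Functor.map_comp]
        exact (congrArg _ ((Spec Γ(S, V)).presheaf.map_id _)).trans (Category.comp_id _)
      rw [h3, Scheme.ΓSpecIso_inv_naturality, hat]
    have h4 := congrArg (· ≫ (Scheme.ΓSpecIso (CommRingCat.of L)).hom) h1
    simp only [Category.assoc, Scheme.ΓSpecIso_naturality, Iso.inv_hom_id, Category.comp_id] at h4
    exact h4
  have hfld : IsField Γ(Spec (S.residueField s), ⊤) :=
    (Scheme.ΓSpecIso (S.residueField s)).commRingCatIsoToRingEquiv.toMulEquiv.isField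
      (Field.toIsField _)
  let _ := hfld.toField
  let _ : Algebra Γ(Spec (S.residueField s), ⊤) L := θ.hom.toAlgebra
  have : IsScalarTower Γ(S, V) Γ(Spec (S.residueField s), ⊤) L :=
    IsScalarTower.of_algebraMap_eq fun r => (congrArg (fun χ => χ.hom r) hθ).symm
  let _ : Algebra Γ(Spec (S.residueField s), ⊤)
      (Γ(X, U) ⊗[Γ(S, V)] Γ(Spec (S.residueField s), ⊤)) := Algebra.TensorProduct.rightAlgebra
  exact hC.field_ext (K := Γ(Spec (S.residueField s), ⊤)) (L := L)

end Fibre

end Groth.EGA43Sep
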