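import Mathlib
import Groth.Agent.GenericFree.Presentation

/-!
Separating families of module maps stay separating after a flat base change of finite presentation,
or after an arbitrary extension of scalars over a ground field.
-/

set_option autoImplicit false
universe u

open TensorProduct

namespace Groth.EGA43Sep

section

variable {A : Type u} [CommRing A]

/-- A family of module maps is separating on every basic open. -/
def Sep {M : Type u} [AddCommGroup M] [Module A M] {ι : Type u} {N : ι → Type u}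
    [∀ i, AddCommGroup (N i)] [∀ i, Module A (N i)] (u : ∀ i, M →ₗ[A] N i) : Prop :=
  ∀ (a : A) (m : M), (∀ i, ∃ n : ℕ, a ^ n • u i m = 0) → ∃ n : ℕ, a ^ n • m = 0

variable {M : Type u} [AddCommGroup M] [Module A M] {ι : Type u} {N : ι → Type u}
    [∀ i, AddCommGroup (N i)] [∀ i, Module A (N i)] {u : ∀ i, M →ₗ[A] N i}

theorem Sep.comp_subtype (h : Sep u) (M' : Submodule A M) : Sep fun i => u i ∘ₗ M'.subtype := by
  intro a m hm
  obtain ⟨n, hn⟩ := h a m hm
  exact ⟨n, Subtype.ext hn⟩

theorem Sep.rangeRestrict (h : Sep u) : Sep fun i => (u i).rangeRestrict := by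
  intro a m hm
  refine h a m fun i => ?_
  obtain ⟨n, hn⟩ := hm i
  exact ⟨n, congrArg Subtype.val hn⟩

section Free

variable {B : Type u} [CommRing B] [Algebra A B]
  (S : Type u) [CommRing S] [Algebra A S]

private theorem free_family [Module.Free S (S ⊗[A] B)]
    (hS : ∀ z : S ⊗[A] M, (∀ i, (u i).baseChange S z = 0) → z = 0)
    (z : B ⊗[A] M) (hz : ∀ i, (u i).lTensor B z = 0) : (1 : S) ⊗ₜ[A] z = 0 := by
  apply (TensorProduct.AlgebraTensorModule.distribBaseChange A S B M).injective
  rw [map_zero]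
  let b := Module.Free.chooseBasis S (S ⊗[A] B)
  have h : ∀ (w : B ⊗[A] M) (i : ι) j,
      (u i).baseChange S (TensorProduct.equivFinsuppOfBasisLeft b
        (TensorProduct.AlgebraTensorModule.distribBaseChange A S B M ((1 : S) ⊗ₜ[A] w)) j) =
      TensorProduct.equivFinsuppOfBasisLeft b
        (TensorProduct.AlgebraTensorModule.distribBaseChange A S B (N i)
          ((1 : S) ⊗ₜ[A] (u i).lTensor B w)) j := by
    intro w i j
    induction w using TensorProduct.induction_on with
    | zero => simp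
    | tmul x m => simp [smul_tmul']
    | add p q hp hq => simp [tmul_add, hp, hq]
  refine (TensorProduct.equivFinsuppOfBasisLeft b).injective ?_
  rw [map_zero]
  ext j
  refine hS _ fun i => ?_
  rw [h, hz]
  simp

end Free

/-- Modules killed by an ideal `J` do not see the quotient of `L` by `J L`. -/
theorem bijective_rTensor_quotient (J : Ideal A) (L : Type u) [CommRing L] [Algebra A L]
    (P : Type u) [AddCommGroup P] [Module A P] (hP : ∀ x ∈ J, ∀ p : P, x • p = 0) :
    Function.Bijective
      ((Ideal.Quotient.mkₐ A (J.map (algebraMap A L))).toLinearMap.rTensor P) := by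
  set π := (Ideal.Quotient.mkₐ A (J.map (algebraMap A L))).toLinearMap with hπdef
  have hπ : Function.Surjective π := Ideal.Quotient.mk_surjective
  refine ⟨?_, LinearMap.rTensor_surjective P hπ⟩
  have hex : Function.Exact (LinearMap.ker π).subtype π := LinearMap.exact_subtype_ker_map π
  have hex' := rTensor_exact P hex hπ
  rw [← LinearMap.ker_eq_bot, eq_bot_iff]
  intro z hz
  obtain ⟨w, rfl⟩ := (hex' z).1 hz
  clear hz
  induction w using TensorProduct.induction_on with
  | zero => simp
  | add p q hp hq => rw [map_add]; exact Submodule.add_mem _ hp hq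
  | tmul l p =>
    have hl : (l : L) ∈ J • (⊤ : Submodule A L) := by
      rw [Ideal.smul_top_eq_map]
      exact Ideal.Quotient.eq_zero_iff_mem.1 l.2
    rw [LinearMap.rTensor_tmul, Submodule.mem_bot, Submodule.subtype_apply]
    exact Submodule.smul_induction_on (p := fun y => y ⊗ₜ[A] p = 0) hl
      (fun x hx y _ => by rw [smul_tmul, hP x hx, tmul_zero])
      (fun y y' hy hy' => by rw [add_tmul, hy, hy', add_zero])

section Main

variable {B : Type u} [CommRing B] [Algebra A B] [Module.Flat A B]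

private theorem step (c : A)
    (ih₁ : ∀ (M' : Submodule A M), (∀ m ∈ M', c • m = 0) → ∀ z : B ⊗[A] M',
      (∀ i, (u i ∘ₗ M'.subtype).lTensor B z = 0) → z = 0)
    (z : B ⊗[A] M) (hz : ∀ i, (u i).lTensor B z = 0)
    (hc : c • z = 0) : z = 0 := by
  let f : M →ₗ[A] M := c • LinearMap.id
  have hex : Function.Exact (LinearMap.ker f).subtype f := LinearMap.exact_subtype_ker_map f
  have hex' := Module.Flat.lTensor_exact B hex
  have hfz : f.lTensor B z = 0 := by
    rw [LinearMap.lTensor_smul, LinearMap.smul_apply, LinearMap.lTensor_id]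
    exact hc
  obtain ⟨w, rfl⟩ := (hex' z).1 hfz
  rw [ih₁ (LinearMap.ker f) (fun m hm => hm) w fun i => by
    rw [LinearMap.lTensor_comp, LinearMap.comp_apply, hz i], map_zero]

variable (A B) in
private def Good (I : Ideal A) : Prop :=
  ∀ (M : Type u) [AddCommGroup M] [Module A M] (ι : Type u) (N : ι → Type u)
    [∀ i, AddCommGroup (N i)] [∀ i, Module A (N i)] (u : ∀ i, M →ₗ[A] N i),
    Sep u → (∀ x ∈ I, ∀ m : M, x • m = 0) →
    ∀ z : B ⊗[A] M, (∀ i, (u i).lTensor B z = 0) → z = 0

variable {A₀ B₀ : Type u} [CommRing A₀] [CommRing B₀] [Algebra A₀ A] [Algebra A₀ B₀]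

private theorem good_map_prime [Algebra.FiniteType A₀ B₀] (e : A ⊗[A₀] B₀ ≃ₐ[A] B)
    (p : Ideal A₀) [p.IsPrime]
    (ih : ∀ J : Ideal A₀, p < J → Good A B (J.map (algebraMap A₀ A))) :
    Good A B (p.map (algebraMap A₀ A)) := by
  intro M _ _ ι N _ _ u hu hkill z hz
  have hgf : Groth.GenericFree.GF (A₀ ⧸ p) ((A₀ ⧸ p) ⊗[A₀] B₀) :=
    Groth.GenericFree.gf_of_finiteType ((A₀ ⧸ p) ⊗[A₀] B₀) ((A₀ ⧸ p) ⊗[A₀] B₀)
  obtain ⟨f, hf, hfree, -⟩ := hgf.exists_free
  obtain ⟨f₀, rfl⟩ := Ideal.Quotient.mk_surjective f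
  have hf₀ : f₀ ∉ p := fun h => hf (Ideal.Quotient.eq_zero_iff_mem.2 h)
  let f : A₀ ⧸ p := Ideal.Quotient.mk p f₀
  let a : A := algebraMap A₀ A f₀
  let C := Localization.Away f
  have : Module.Free C (LocalizedModule (Submonoid.powers f) ((A₀ ⧸ p) ⊗[A₀] B₀)) :=
    hfree f hf dvd_rfl
  have : Module.Free C (C ⊗[A₀] B₀) := by
    refine Module.Free.of_equiv
      ((LocalizedModule.equivTensorProduct (Submonoid.powers f) ((A₀ ⧸ p) ⊗[A₀] B₀)).trans
        (TensorProduct.AlgebraTensorModule.cancelBaseChange A₀ (A₀ ⧸ p) C C B₀))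
  let J : Ideal A := p.map (algebraMap A₀ A)
  let L := Localization.Away a
  let S := L ⧸ J.map (algebraMap A L)
  let g : (A₀ ⧸ p) →+* S := Ideal.Quotient.lift p (algebraMap A₀ S) fun x hx => by
    rw [IsScalarTower.algebraMap_apply A₀ L S, IsScalarTower.algebraMap_apply A₀ A L]
    exact Ideal.Quotient.eq_zero_iff_mem.2 (Ideal.mem_map_of_mem _ (Ideal.mem_map_of_mem _ hx))
  have hg : IsUnit (g f) := by
    show IsUnit (algebraMap A₀ S f₀)
    rw [IsScalarTower.algebraMap_apply A₀ L S, IsScalarTower.algebraMap_apply A₀ A L]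
    exact (IsLocalization.Away.algebraMap_isUnit a).map _
  let g' : C →+* S := IsLocalization.Away.lift f hg
  letI : Algebra C S := g'.toAlgebra
  haveI : IsScalarTower A₀ C S := IsScalarTower.of_algebraMap_eq fun x => by
    show algebraMap A₀ S x = g' (algebraMap A₀ C x)
    rw [IsScalarTower.algebraMap_apply A₀ (A₀ ⧸ p) C, IsLocalization.Away.lift_eq]
    rfl
  have : Module.Free S (S ⊗[A] B) := by
    refine Module.Free.of_equiv
      (?_ : S ⊗[C] (C ⊗[A₀] B₀) ≃ₗ[S] S ⊗[A] B)
    exact TensorProduct.AlgebraTensorModule.cancelBaseChange A₀ C S S B₀ ≪≫ₗ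
      (TensorProduct.AlgebraTensorModule.cancelBaseChange A₀ A S S B₀).symm ≪≫ₗ
      TensorProduct.AlgebraTensorModule.congr (LinearEquiv.refl S S) e.toLinearEquiv
  let u' : ∀ i, M →ₗ[A] LinearMap.range (u i) := fun i => (u i).rangeRestrict
  have hu' : Sep u' := hu.rangeRestrict
  have hz' : ∀ i, (u' i).lTensor B z = 0 := fun i => by
    apply Module.Flat.lTensor_preserves_injective_linearMap (M := B) _
      (LinearMap.range (u i)).injective_subtype
    rw [map_zero, ← LinearMap.comp_apply, ← LinearMap.lTensor_comp,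
      LinearMap.subtype_comp_codRestrict, hz i]
  have hkill' : ∀ i, ∀ x ∈ J, ∀ y : LinearMap.range (u i), x • y = 0 := by
    rintro i x hx ⟨_, m, rfl⟩
    exact Subtype.ext (by simp [← map_smul, hkill x hx m])
  let π : L →ₗ[A] S := (Ideal.Quotient.mkₐ A (J.map (algebraMap A L))).toLinearMap
  have hloc : ∀ (P : Type u) [AddCommGroup P] [Module A P],
      IsLocalizedModule (Submonoid.powers a) (TensorProduct.mk A L P 1) := fun P _ _ =>
    inferInstance
  have hS : ∀ w : S ⊗[A] M, (∀ i, (u' i).baseChange S w = 0) → w = 0 := by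
    intro w hw
    obtain ⟨v, rfl⟩ := (bijective_rTensor_quotient J L M hkill).2 w
    obtain ⟨⟨m, ⟨_, n, rfl⟩⟩, hm⟩ := IsLocalizedModule.surj (Submonoid.powers a)
      (TensorProduct.mk A L M 1) v
    have hm' : a ^ n • v = (1 : L) ⊗ₜ[A] m := hm
    have hun : IsUnit (algebraMap A L (a ^ n)) := by
      rw [map_pow]; exact (IsLocalization.Away.algebraMap_isUnit a).pow n
    have hm0 : ∃ k : ℕ, a ^ k • m = 0 := hu' a m fun i => by
      have h1 : π.rTensor _ ((u' i).lTensor L v) = 0 := by
        rw [← LinearMap.comp_apply, LinearMap.rTensor_comp_lTensor,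
          ← LinearMap.lTensor_comp_rTensor, LinearMap.comp_apply]
        exact hw i
      have h2 : (u' i).lTensor L v = 0 :=
        (bijective_rTensor_quotient J L _ (hkill' i)).1 (h1.trans (map_zero _).symm)
      have h3 : TensorProduct.mk A L _ 1 (u' i m) = 0 := by
        have h4 := congrArg (fun y => (u' i).lTensor L y) hm'
        simp only [map_smul, h2, smul_zero, LinearMap.lTensor_tmul] at h4
        exact h4.symm
      have := hloc (LinearMap.range (u i))
      obtain ⟨⟨_, k, rfl⟩, hk⟩ :=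
        (IsLocalizedModule.eq_zero_iff (Submonoid.powers a) (TensorProduct.mk A L _ 1)).1 h3
      exact ⟨k, hk⟩
    obtain ⟨k, hk⟩ := hm0
    have hv : v = 0 := by
      have h5 : (a ^ k * a ^ n) • v = 0 := by
        rw [mul_smul, hm', ← tmul_smul, hk, tmul_zero]
      rw [← algebraMap_smul L, map_mul] at h5
      refine (IsUnit.smul_eq_zero ?_).1 h5
      exact ((by rw [map_pow]; exact (IsLocalization.Away.algebraMap_isUnit a).pow k :
        IsUnit (algebraMap A L (a ^ k)))).mul hun
    rw [hv, map_zero]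
  have h1 := free_family (u := u') S hS z hz'
  have hkillB : ∀ x ∈ J, ∀ w : B ⊗[A] M, x • w = 0 := by
    intro x hx w
    induction w using TensorProduct.induction_on with
    | zero => simp
    | tmul b m => rw [← tmul_smul, hkill x hx, tmul_zero]
    | add p q hp hq => rw [smul_add, hp, hq, add_zero]
  have h2 : TensorProduct.mk A L (B ⊗[A] M) 1 z = 0 := by
    apply (bijective_rTensor_quotient J L _ hkillB).1
    rw [map_zero]
    exact h1
  have := hloc (B ⊗[A] M)
  obtain ⟨⟨_, k, rfl⟩, hk⟩ :=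
    (IsLocalizedModule.eq_zero_iff (Submonoid.powers a) (TensorProduct.mk A L _ 1)).1 h2
  have hk' : a ^ k • z = 0 := hk
  refine step (u := u) (a ^ k) (fun M' hM' w hw => ?_) z hz hk'
  refine ih (p ⊔ Ideal.span {f₀ ^ k}) (lt_of_le_of_ne le_sup_left fun h => ?_) M' ι N _
    (hu.comp_subtype M') ?_ w hw
  · have : f₀ ^ k ∈ p := h ▸ Ideal.mem_sup_right (Ideal.mem_span_singleton_self _)
    exact hf₀ (‹p.IsPrime›.mem_of_pow_mem k this)
  · intro x hx m
    rw [Ideal.map_sup, Ideal.map_span, Set.image_singleton] at hx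
    obtain ⟨y, hy, w', hw', rfl⟩ := Submodule.mem_sup.1 hx
    obtain ⟨r, rfl⟩ := Ideal.mem_span_singleton'.1 hw'
    apply Subtype.ext
    simp only [add_smul, Submodule.coe_add, Submodule.coe_smul, mul_smul, hkill y hy,
      map_pow, Submodule.coe_zero, zero_add]
    rw [show algebraMap A₀ A f₀ ^ k • (m : M) = 0 from hM' m m.2, smul_zero]

theorem eq_zero_of_sep [Algebra.FinitePresentation A B] (hu : Sep u) (z : B ⊗[A] M)
    (hz : ∀ i, (u i).lTensor B z = 0) : z = 0 := by
  let P := Algebra.Presentation.ofFinitePresentation A B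
  let e := P.tensorModelOfHasCoeffsEquiv P.Core
  have : IsNoetherianRing P.Core := Algebra.FiniteType.isNoetherianRing ℤ P.Core
  suffices h : ∀ I : Ideal P.Core, Good A B (I.map (algebraMap P.Core A)) from
    h ⊥ M ι N u hu (fun x hx m => by
      rw [Ideal.map_bot, Ideal.mem_bot] at hx
      rw [hx, zero_smul]) z hz
  intro I
  induction I using WellFoundedGT.induction with
  | ind I ih =>
  by_cases hp : I.IsPrime
  · exact good_map_prime e I ih
  intro M _ _ ι N _ _ u hu hkill z hz
  by_cases htop : I = ⊤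
  · have : Subsingleton M := subsingleton_of_forall_eq 0 fun m => by
      simpa using hkill 1 (by rw [htop, Ideal.map_top]; trivial) m
    exact Subsingleton.elim _ _
  obtain ⟨x, hx, y, hy, hxy⟩ := (Ideal.not_isPrime_iff.1 hp).resolve_left htop
  let a := algebraMap P.Core A x
  let b := algebraMap P.Core A y
  refine step (u := u) a (fun M' hM' w hw => ?_) z hz ?_
  · refine ih (I ⊔ Ideal.span {x}) (lt_of_le_of_ne le_sup_left fun h => hx ?_) M' ι N _
      (hu.comp_subtype M') ?_ w hw
    · exact h ▸ Ideal.mem_sup_right (Ideal.mem_span_singleton_self _)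
    · intro c hc m
      rw [Ideal.map_sup, Ideal.map_span, Set.image_singleton] at hc
      obtain ⟨c₁, hc₁, c₂, hc₂, rfl⟩ := Submodule.mem_sup.1 hc
      obtain ⟨r, rfl⟩ := Ideal.mem_span_singleton'.1 hc₂
      apply Subtype.ext
      have := hM' m m.2
      simp only [a] at this
      simp [add_smul, mul_smul, hkill c₁ hc₁, this]
  · -- `a • z` lives in `B ⊗ a M`, which is killed by `b`
    let f : M →ₗ[A] M := a • LinearMap.id
    have hsub : LinearMap.range f ≤ (⊤ : Submodule A M) := le_top
    have hf : a • z = (LinearMap.range f).subtype.lTensor B (f.rangeRestrict.lTensor B z) := by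
      rw [← LinearMap.comp_apply, ← LinearMap.lTensor_comp, LinearMap.subtype_comp_codRestrict,
        LinearMap.lTensor_smul, LinearMap.smul_apply, LinearMap.lTensor_id]
      rfl
    rw [hf]
    refine (congrArg _ (ih (I ⊔ Ideal.span {y}) (lt_of_le_of_ne le_sup_left fun h => hy ?_)
      (LinearMap.range f) ι N _ (hu.comp_subtype _) ?_ _ fun i => ?_)).trans (map_zero _)
    · exact h ▸ Ideal.mem_sup_right (Ideal.mem_span_singleton_self _)
    · intro c hc m
      obtain ⟨_, m, rfl⟩ := m
      rw [Ideal.map_sup, Ideal.map_span, Set.image_singleton] at hc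
      obtain ⟨c₁, hc₁, c₂, hc₂, rfl⟩ := Submodule.mem_sup.1 hc
      obtain ⟨r, rfl⟩ := Ideal.mem_span_singleton'.1 hc₂
      apply Subtype.ext
      have hba : b • a • m = 0 := by
        rw [← mul_smul, show b * a = algebraMap P.Core A (x * y) by rw [map_mul, mul_comm]]
        exact hkill _ (Ideal.mem_map_of_mem _ hxy) m
      simp [f, add_smul, mul_smul, hkill c₁ hc₁, hba, b]
    · rw [LinearMap.lTensor_comp, LinearMap.comp_apply, ← hf, map_smul, hz i, smul_zero]

/-- Separation on every basic open of the base change. -/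
theorem exists_pow_smul_eq_zero_of_sep [Algebra.FinitePresentation A B] (hu : Sep u) (f : B)
    (z : B ⊗[A] M) (hz : ∀ i, ∃ n : ℕ, f ^ n • (u i).lTensor B z = 0) :
    ∃ n : ℕ, f ^ n • z = 0 := by
  let C := Localization.Away f
  have : Module.Flat A C := Module.Flat.trans A B C
  have : Algebra.FinitePresentation B C := IsLocalization.Away.finitePresentation f
  have : Algebra.FinitePresentation A C := Algebra.FinitePresentation.trans A B C
  have hg : ∀ (P : Type u) [AddCommGroup P] [Module A P], IsLocalizedModule (Submonoid.powers f)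
      (TensorProduct.AlgebraTensorModule.rTensor A P (Algebra.linearMap B C)) := fun P _ _ => by
    have : IsLocalizedModule (Submonoid.powers f) (Algebra.linearMap B C) := inferInstance
    exact inferInstance
  let g := fun (P : Type u) [AddCommGroup P] [Module A P] =>
    TensorProduct.AlgebraTensorModule.rTensor A P (Algebra.linearMap B C)
  have hnat : ∀ i, (u i).lTensor C (g M z) = g (N i) ((u i).lTensor B z) := by
    intro i
    clear hz
    induction z using TensorProduct.induction_on with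
    | zero => simp
    | tmul b m => simp [g]
    | add p q hp hq => simp [hp, hq]
  have h0 : g M z = 0 := eq_zero_of_sep hu _ fun i => by
    obtain ⟨n, hn⟩ := hz i
    rw [hnat]
    have := hg (N i)
    exact (IsLocalizedModule.eq_zero_iff (Submonoid.powers f) (g (N i))).2
      ⟨⟨_, n, rfl⟩, hn⟩
  have := hg M
  obtain ⟨⟨_, n, rfl⟩, hn⟩ :=
    (IsLocalizedModule.eq_zero_iff (Submonoid.powers f) (g M)).1 h0
  exact ⟨n, hn⟩

end Main

end

section Field

variable {k A B : Type u} [Field k] [CommRing A] [Algebra k A] [CommRing B] [Algebra k B]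
  {M : Type u} [AddCommGroup M] [Module A M] {ι : Type u} {N : ι → Type u}
  [∀ i, AddCommGroup (N i)] [∀ i, Module A (N i)] {u : ∀ i, M →ₗ[A] N i}

noncomputable def inc (B₀ : Subalgebra k B) : A ⊗[k] B₀ →ₐ[A] A ⊗[k] B :=
  Algebra.TensorProduct.map (AlgHom.id A A) B₀.val

theorem inc_mono {B₀ B₁ : Subalgebra k B} (h : B₀ ≤ B₁) (r : A ⊗[k] B₀) :
    ∃ w, inc (A := A) B₁ w = inc (A := A) B₀ r := by
  induction r using TensorProduct.induction_on with
  | zero => exact ⟨0, by rw [map_zero, map_zero]⟩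
  | tmul a b =>
    refine ⟨a ⊗ₜ Subalgebra.inclusion h b, ?_⟩
    simp [inc]
  | add p q hp hq =>
    obtain ⟨v, hv⟩ := hp
    obtain ⟨w, hw⟩ := hq
    exact ⟨v + w, by rw [map_add, map_add, hv, hw]⟩

theorem exists_fg_preimage (r : A ⊗[k] B) :
    ∃ (s : Finset B) (w : A ⊗[k] Algebra.adjoin k (s : Set B)),
      inc (A := A) (Algebra.adjoin k (s : Set B)) w = r := by
  classical
  induction r using TensorProduct.induction_on with
  | zero => exact ⟨∅, 0, by rw [map_zero]⟩
  | tmul a b =>
    refine ⟨{b}, a ⊗ₜ ⟨b, Algebra.subset_adjoin (by simp)⟩, ?_⟩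
    simp [inc]
  | add p q hp hq =>
    obtain ⟨s, v, rfl⟩ := hp
    obtain ⟨t, w, rfl⟩ := hq
    obtain ⟨v', hv⟩ := inc_mono (Algebra.adjoin_mono
      (Finset.coe_subset.2 (Finset.subset_union_left (s₁ := s) (s₂ := t)))) v
    obtain ⟨w', hw⟩ := inc_mono (Algebra.adjoin_mono
      (Finset.coe_subset.2 (Finset.subset_union_right (s₁ := s) (s₂ := t)))) w
    exact ⟨s ∪ t, v' + w', by rw [map_add, hv, hw]⟩

theorem exists_pow_smul_eq_zero_of_sep_field (hu : Sep u) (f : A ⊗[k] B)
    (z : (A ⊗[k] B) ⊗[A] M) (hz : ∀ i, ∃ n : ℕ, f ^ n • (u i).lTensor (A ⊗[k] B) z = 0) :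
    ∃ n : ℕ, f ^ n • z = 0 := by
  classical
  obtain ⟨ts, hts⟩ : ∃ ts : Finset ((A ⊗[k] B) × M), z = ∑ t ∈ ts, t.1 ⊗ₜ[A] t.2 :=
    TensorProduct.exists_finset z
  choose s w hsw using exists_fg_preimage (A := A) (B := B) (k := k)
  let s' : Finset B := s f ∪ ts.biUnion fun t => s t.1
  let B₀ := Algebra.adjoin k (s' : Set B)
  have : Algebra.FiniteType k B₀ := (Subalgebra.fg_iff_finiteType _).1 ⟨s', rfl⟩
  have : Algebra.FinitePresentation k B₀ :=
    Algebra.FinitePresentation.of_finiteType.1 inferInstance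
  let j : A ⊗[k] B₀ →ₐ[A] A ⊗[k] B := inc B₀
  have hle : ∀ r, s r ⊆ s' → ∃ v, j v = r := fun r hr => by
    obtain ⟨v, hv⟩ := inc_mono (Algebra.adjoin_mono (Finset.coe_subset.2 hr)) (w r)
    exact ⟨v, hv.trans (hsw r)⟩
  obtain ⟨f₀, hf₀⟩ := hle f Finset.subset_union_left
  obtain ⟨z₀, hz₀⟩ : ∃ z₀, j.toLinearMap.rTensor M z₀ = z := by
    suffices z ∈ LinearMap.range (j.toLinearMap.rTensor M) from this
    rw [hts]
    refine Submodule.sum_mem _ fun t ht => ?_
    obtain ⟨w, hw⟩ := hle t.1 ((Finset.subset_biUnion_of_mem (fun t => s t.1) ht).trans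
      Finset.subset_union_right)
    exact ⟨w ⊗ₜ t.2, by simp [← hw]⟩
  subst hz₀
  obtain ⟨ρ, hρ⟩ := B₀.val.toLinearMap.exists_leftInverse_of_injective
    (LinearMap.ker_eq_bot.2 Subtype.val_injective)
  have hinj : ∀ (P : Type u) [AddCommGroup P] [Module A P],
      Function.Injective (j.toLinearMap.rTensor P) := by
    intro P _ _
    refine Function.LeftInverse.injective (g := (ρ.baseChange A).rTensor P) fun w => ?_
    rw [← LinearMap.comp_apply, ← LinearMap.rTensor_comp]
    have : ρ.baseChange A ∘ₗ j.toLinearMap = LinearMap.id := by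
      ext b
      simpa [j, inc] using congrArg ((1 : A) ⊗ₜ[k] ·) (LinearMap.congr_fun hρ b)
    rw [this, LinearMap.rTensor_id]
    rfl
  have hsmul : ∀ (P : Type u) [AddCommGroup P] [Module A P] (r : A ⊗[k] B₀)
      (w : (A ⊗[k] B₀) ⊗[A] P),
      j.toLinearMap.rTensor P (r • w) = j r • j.toLinearMap.rTensor P w := by
    intro P _ _ r w
    induction w using TensorProduct.induction_on with
    | zero => simp
    | tmul b m => simp [smul_tmul']
    | add p q hp hq => simp [hp, hq]
  obtain ⟨n, hn⟩ := exists_pow_smul_eq_zero_of_sep hu f₀ z₀ fun i => by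
    obtain ⟨n, hn⟩ := hz i
    refine ⟨n, hinj _ ?_⟩
    rw [map_zero, hsmul, map_pow, hf₀, ← LinearMap.comp_apply, LinearMap.rTensor_comp_lTensor,
      ← LinearMap.lTensor_comp_rTensor, LinearMap.comp_apply]
    exact hn
  exact ⟨n, by rw [← hf₀, ← map_pow, ← hsmul, hn, map_zero]⟩

end Field

end Groth.EGA43Sep

namespace Groth.EGA43Sep

/-- Extension of scalars along a ground field, for a pushout square. -/
theorem exists_pow_smul_eq_zero_of_sep_isPushout {k A B R M : Type u} [Field k] [CommRing A]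
    [CommRing B] [CommRing R] [Algebra k A] [Algebra k B] [Algebra k R] [Algebra A R] [Algebra B R]
    [IsScalarTower k A R] [IsScalarTower k B R] [Algebra.IsPushout k A B R]
    [AddCommGroup M] [Module A M] {ι : Type u} {N : ι → Type u} [∀ i, AddCommGroup (N i)]
    [∀ i, Module A (N i)] {u : ∀ i, M →ₗ[A] N i} (hu : Sep u) (f : R) (z : R ⊗[A] M)
    (hz : ∀ i, ∃ n : ℕ, f ^ n • (u i).lTensor R z = 0) : ∃ n : ℕ, f ^ n • z = 0 := by
  let e := Algebra.IsPushout.equiv k A B R
  have hsmul : ∀ (P : Type u) [AddCommGroup P] [Module A P] (r : R) (w : R ⊗[A] P),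
      e.symm.toLinearMap.rTensor P (r • w) = e.symm r • e.symm.toLinearMap.rTensor P w := by
    intro P _ _ r w
    induction w using TensorProduct.induction_on with
    | zero => simp
    | tmul b m => simp [smul_tmul']
    | add p q hp hq => simp [hp, hq]
  obtain ⟨n, hn⟩ := exists_pow_smul_eq_zero_of_sep_field hu (e.symm f)
    (e.symm.toLinearMap.rTensor M z) fun i => by
      obtain ⟨n, hn⟩ := hz i
      refine ⟨n, ?_⟩
      rw [← LinearMap.comp_apply, LinearMap.lTensor_comp_rTensor,
        ← LinearMap.rTensor_comp_lTensor, LinearMap.comp_apply, ← map_pow, ← hsmul, hn, map_zero]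
  refine ⟨n, (e.symm.toLinearEquiv.rTensor M).injective ?_⟩
  rw [map_zero]
  refine Eq.trans ?_ hn
  exact (hsmul M _ z).trans (by rw [map_pow])

end Groth.EGA43Sep
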