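import Groth.Agent.EGA43Sep.Alg

/-!
Separating families: base change along algebras over the base, fibrewise criterion for flat targets.
-/

set_option autoImplicit false
universe u

open TensorProduct

namespace Groth.EGA43Sep

variable {R M : Type u} [CommRing R] [AddCommGroup M] [Module R M] {ι : Type u} {N : ι → Type u}
  [∀ i, AddCommGroup (N i)] [∀ i, Module R (N i)]

/-- The family stays separating on all basic opens of the spectrum of an `R`-algebra. -/
def SepAlg (u : ∀ i, M →ₗ[R] N i) (C : Type u) [CommRing C] [Algebra R C] : Prop :=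
  ∀ (f : C) (z : C ⊗[R] M), (∀ i, ∃ n : ℕ, f ^ n • (u i).lTensor C z = 0) → ∃ n : ℕ, f ^ n • z = 0

variable {u : ∀ i, M →ₗ[R] N i}

theorem SepAlg.of_algEquiv {C D : Type u} [CommRing C] [Algebra R C] [CommRing D] [Algebra R D]
    (h : SepAlg u C) (e : C ≃ₐ[R] D) : SepAlg u D := by
  have hsmul : ∀ (P : Type u) [AddCommGroup P] [Module R P] (r : D) (w : D ⊗[R] P),
      e.symm.toLinearMap.rTensor P (r • w) = e.symm r • e.symm.toLinearMap.rTensor P w := by
    intro P _ _ r w
    induction w using TensorProduct.induction_on with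
    | zero => simp
    | tmul b m => simp [smul_tmul']
    | add p q hp hq => simp [hp, hq]
  intro f z hz
  obtain ⟨n, hn⟩ := h (e.symm f) (e.symm.toLinearMap.rTensor M z) fun i => by
    obtain ⟨n, hn⟩ := hz i
    refine ⟨n, ?_⟩
    rw [← LinearMap.comp_apply, LinearMap.lTensor_comp_rTensor, ← LinearMap.rTensor_comp_lTensor,
      LinearMap.comp_apply, ← map_pow, ← hsmul, hn, map_zero]
  refine ⟨n, (e.symm.toLinearEquiv.rTensor M).injective ?_⟩
  rw [map_zero]
  refine Eq.trans ?_ hn
  exact (hsmul M _ z).trans (by rw [map_pow])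

/-- Composition of extensions of scalars. -/
theorem SepAlg.of_tower {C D : Type u} [CommRing C] [Algebra R C] [CommRing D] [Algebra R D]
    [Algebra C D] [IsScalarTower R C D] (h : SepAlg (fun i => (u i).baseChange C) D) :
    SepAlg u D := by
  intro f z hz
  let c := fun (P : Type u) [AddCommGroup P] [Module R P] =>
    (TensorProduct.AlgebraTensorModule.cancelBaseChange R C D D P).symm
  obtain ⟨n, hn⟩ := h f (c M z) fun i => by
    obtain ⟨n, hn⟩ := hz i
    refine ⟨n, ?_⟩
    have hnat : ∀ w, ((u i).baseChange C).lTensor D (c M w) = c (N i) ((u i).lTensor D w) := by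
      intro w
      induction w using TensorProduct.induction_on with
      | zero => simp
      | tmul b m => simp [c]
      | add p q hp hq => simp [hp, hq]
    rw [hnat, ← map_smul, hn, map_zero]
  exact ⟨n, (c M).injective (by rw [map_smul, hn, map_zero])⟩

/-- Pushouts compose: `R ⊗[A] L ≃ C ⊗[K] L` for `C = R ⊗[A] K`. -/
theorem nonempty_algEquiv_of_isPushout {A K L C : Type u} [CommRing A] [CommRing K] [CommRing L]
    [CommRing C] [Algebra A R] [Algebra A K] [Algebra A L] [Algebra K L] [IsScalarTower A K L]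
    [Algebra A C] [Algebra R C] [Algebra K C] [IsScalarTower A R C] [IsScalarTower A K C]
    [Algebra.IsPushout A R K C] : Nonempty (R ⊗[A] L ≃ₐ[R] C ⊗[K] L) := by
  let _ : Algebra L (C ⊗[K] L) := Algebra.TensorProduct.rightAlgebra
  have : IsScalarTower A L (C ⊗[K] L) := IsScalarTower.of_algebraMap_eq fun a => by
    show algebraMap A C a ⊗ₜ[K] (1 : L) = (1 : C) ⊗ₜ[K] algebraMap A L a
    rw [IsScalarTower.algebraMap_apply A K C, IsScalarTower.algebraMap_apply A K L,
      Algebra.algebraMap_eq_smul_one, Algebra.algebraMap_eq_smul_one (A := L), smul_tmul]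
  have : IsScalarTower K L (C ⊗[K] L) := IsScalarTower.of_algebraMap_eq fun a => by
    show algebraMap K C a ⊗ₜ[K] (1 : L) = (1 : C) ⊗ₜ[K] algebraMap K L a
    rw [Algebra.algebraMap_eq_smul_one, Algebra.algebraMap_eq_smul_one (A := L), smul_tmul]
  have : Algebra.IsPushout A K R C := Algebra.IsPushout.symm inferInstance
  have h1 : Algebra.IsPushout K L C (C ⊗[K] L) := Algebra.IsPushout.symm inferInstance
  have h2 : Algebra.IsPushout A L R (C ⊗[K] L) :=
    (Algebra.IsPushout.comp_iff (R := A) (S := K) (R' := R) (S' := C) (T := L)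
      (T' := C ⊗[K] L)).2 h1
  have : Algebra.IsPushout A R L (C ⊗[K] L) := h2.symm
  exact ⟨Algebra.IsPushout.equiv A R L (C ⊗[K] L)⟩

/-- Field extension of a fibre. -/
theorem SepAlg.field_ext {A K L C : Type u} [CommRing A] [Field K] [CommRing L]
    [CommRing C] [Algebra A R] [Algebra A K] [Algebra A L] [Algebra K L] [IsScalarTower A K L]
    [Algebra A C] [Algebra R C] [Algebra K C] [IsScalarTower A R C] [IsScalarTower A K C]
    [Algebra.IsPushout A R K C] (h : SepAlg u C) : SepAlg u (R ⊗[A] L) := by
  obtain ⟨e⟩ := nonempty_algEquiv_of_isPushout (R := R) (A := A) (K := K) (L := L) (C := C)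
  refine SepAlg.of_algEquiv ?_ e.symm
  refine SepAlg.of_tower (C := C) fun f z hz => ?_
  exact exists_pow_smul_eq_zero_of_sep_field (k := K) (A := C) (B := L)
    (u := fun i => (u i).baseChange C) h f z hz

section Core

variable {B C : Type u} [CommRing B] [CommRing C] [Algebra R C] [Algebra B C]

/-- Kernel of `X → κ(p) ⊗ X`. -/
theorem exists_smul_mem_of_residueField_tmul_eq_zero {X : Type u} [AddCommGroup X] [Module B X]
    (p : Ideal B) [p.IsPrime] (x : X) (h : (1 : p.ResidueField) ⊗ₜ[B] x = 0) :
    ∃ b ∉ p, b • x ∈ p • (⊤ : Submodule B X) := by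
  let X' := (B ⧸ p) ⊗[B] X
  have : IsLocalizedModule (nonZeroDivisors (B ⧸ p))
      (TensorProduct.mk (B ⧸ p) p.ResidueField X' 1) := inferInstance
  have h1 : TensorProduct.mk (B ⧸ p) p.ResidueField X' 1 ((1 : B ⧸ p) ⊗ₜ[B] x) = 0 := by
    apply (TensorProduct.AlgebraTensorModule.cancelBaseChange B (B ⧸ p) p.ResidueField
      p.ResidueField X).injective
    rw [map_zero, TensorProduct.mk_apply, TensorProduct.AlgebraTensorModule.cancelBaseChange_tmul,
      one_smul]
    exact h
  obtain ⟨⟨b, hb⟩, hbx⟩ := (IsLocalizedModule.eq_zero_iff (nonZeroDivisors (B ⧸ p))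
    (TensorProduct.mk (B ⧸ p) p.ResidueField X' 1)).1 h1
  obtain ⟨b, rfl⟩ := Ideal.Quotient.mk_surjective b
  refine ⟨b, fun hbp => nonZeroDivisors.ne_zero hb (Ideal.Quotient.eq_zero_iff_mem.2 hbp), ?_⟩
  have h2 : Ideal.Quotient.mk p b • ((1 : B ⧸ p) ⊗ₜ[B] x) = 0 := hbx
  rw [smul_tmul', smul_eq_mul, mul_one] at h2
  rw [← Submodule.Quotient.mk_eq_zero, ← TensorProduct.quotTensorEquivQuotSMul_mk_tmul p b x,
    h2, map_zero]

/-- Fibrewise separation of a family into flat modules gives separation, over a Noetherian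
algebra. -/
theorem SepAlg.of_fibrewise [IsNoetherianRing C] [Module.Finite R M]
    (hflat : ∀ i, Module.Flat B (C ⊗[R] N i))
    (h : ∀ (p : Ideal B) [p.IsPrime], SepAlg u (C ⊗[B] p.ResidueField)) : SepAlg u C := by
  classical
  intro f z hz
  -- it suffices to kill `z` at every prime avoiding `f`
  suffices key : ∀ q : Ideal C, q.IsPrime → f ∉ q → ∃ g ∉ q, g • z = 0 by
    let J : Ideal C := LinearMap.ker (LinearMap.toSpanSingleton C (C ⊗[R] M) z)
    have hrad : f ∈ J.radical := by
      rw [Ideal.radical_eq_sInf, Submodule.mem_sInf]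
      rintro q ⟨hle, hq⟩
      by_contra hf
      obtain ⟨g, hg, hgz⟩ := key q hq hf
      exact hg (hle hgz)
    obtain ⟨n, hn⟩ := hrad
    exact ⟨n, hn⟩
  intro q hq hfq
  let M' := C ⊗[R] M
  let p : Ideal B := q.comap (algebraMap B C)
  suffices hk : ∀ k : ℕ, ∃ g ∉ q, g • z ∈ p ^ k • (⊤ : Submodule B M') by
    let Cq := Localization.AtPrime q
    let loc : M' →ₗ[C] LocalizedModule q.primeCompl M' := LocalizedModule.mkLinearMap _ _
    have hmem : loc z ∈ ⨅ k : ℕ, (IsLocalRing.maximalIdeal Cq) ^ k •
        (⊤ : Submodule Cq (LocalizedModule q.primeCompl M')) := by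
      rw [Submodule.mem_iInf]
      intro k
      obtain ⟨g, hg, hgz⟩ := hk k
      have hu : IsUnit (algebraMap C Cq g) := IsLocalization.map_units Cq (⟨g, hg⟩ : q.primeCompl)
      rw [← Submodule.smul_mem_iff_of_isUnit _ hu, algebraMap_smul, ← map_smul]
      refine Submodule.smul_induction_on (p := fun w => loc w ∈ (IsLocalRing.maximalIdeal Cq) ^ k •
        (⊤ : Submodule Cq (LocalizedModule q.primeCompl M'))) hgz (fun r hr w _ => ?_) ?_
      · rw [← algebraMap_smul C r w, map_smul, ← algebraMap_smul Cq (algebraMap B C r)]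
        refine Submodule.smul_mem_smul ?_ Submodule.mem_top
        have h1 : algebraMap B C r ∈ q ^ k :=
          Ideal.pow_right_mono (Ideal.map_comap_le (f := algebraMap B C) (K := q)) k
            (by rw [← Ideal.map_pow]; exact Ideal.mem_map_of_mem _ hr)
        rw [← Localization.AtPrime.map_eq_maximalIdeal, ← Ideal.map_pow]
        exact Ideal.mem_map_of_mem _ h1
      · intro a b ha hb
        rw [map_add]
        exact Submodule.add_mem _ ha hb
    have : Module.Finite C M' := inferInstance
    have : Module.Finite Cq (LocalizedModule q.primeCompl M') :=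
      Module.Finite.of_isLocalizedModule q.primeCompl loc
    have : IsNoetherianRing Cq := IsLocalization.isNoetherianRing q.primeCompl Cq inferInstance
    have hbot := Ideal.iInf_pow_smul_eq_bot_of_le_jacobson
      (M := LocalizedModule q.primeCompl M') (IsLocalRing.maximalIdeal Cq)
      (IsLocalRing.maximalIdeal_le_jacobson _)
    have h0 : loc z = 0 := (Submodule.mem_bot Cq).1 (hbot.le hmem)
    obtain ⟨⟨g, hg⟩, hgz⟩ := (IsLocalizedModule.eq_zero_iff q.primeCompl loc).1 h0
    exact ⟨g, hg, hgz⟩
  intro k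
  induction k with
  | zero =>
    exact ⟨1, fun h1 => hq.ne_top ((Ideal.eq_top_iff_one q).2 h1), by
      rw [pow_zero, Ideal.one_eq_top, Submodule.top_smul]; trivial⟩
  | succ k ih =>
    obtain ⟨g, hg, hgz⟩ := ih
    -- lift `g • z` to `C ⊗ M ⊗ p ^ k`
    let μ := fun (P : Type u) [AddCommGroup P] [Module C P] [Module B P] [IsScalarTower B C P] =>
      (TensorProduct.AlgebraTensorModule.rid B C P).toLinearMap ∘ₗ
        TensorProduct.AlgebraTensorModule.lTensor C P (p ^ k).subtype
    obtain ⟨y, hy⟩ : ∃ y, μ M' y = g • z := by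
      refine Submodule.smul_induction_on (p := fun x => ∃ y, μ M' y = x) hgz
        (fun r hr x _ => ⟨x ⊗ₜ (⟨r, hr⟩ : ↥(p ^ k)), by simp [μ]⟩) ?_
      rintro _ _ ⟨a, rfl⟩ ⟨b, rfl⟩
      exact ⟨a + b, map_add _ _ _⟩
    let v := fun i => (u i).baseChange C
    have hvlin : ∀ i (x : M') (r : B), v i (r • x) = r • v i x := fun i x r => by
      rw [← algebraMap_smul C r x, map_smul, algebraMap_smul]
    let vB := fun i => ({ toFun := v i, map_add' := map_add _, map_smul' := fun r x => hvlin i x r } :
      M' →ₗ[B] C ⊗[R] N i)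
    let T := fun i => TensorProduct.AlgebraTensorModule.map (v i) (LinearMap.id : ↥(p ^ k) →ₗ[B] _)
    have hT : ∀ i, ∃ n : ℕ, f ^ n • T i y = 0 := by
      intro i
      obtain ⟨n, hn⟩ := hz i
      refine ⟨n, ?_⟩
      have hinj : Function.Injective (μ (C ⊗[R] N i)) := by
        have := hflat i
        rw [LinearMap.coe_comp, LinearEquiv.coe_coe]
        exact (LinearEquiv.injective _).comp
          (Module.Flat.lTensor_preserves_injective_linearMap _ Subtype.val_injective)
      have hnat : ∀ w, μ (C ⊗[R] N i) (T i w) = v i (μ M' w) := by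
        intro w
        induction w using TensorProduct.induction_on with
        | zero => simp
        | tmul x r => simp [μ, T, v, hvlin]
        | add a b ha hb => simp only [map_add, ha, hb]
      apply hinj
      rw [map_zero, map_smul, hnat, hy, map_smul, smul_comm]
      exact (congrArg (g • ·) hn).trans (smul_zero g)
    let κ := p.ResidueField
    let b := Module.Free.chooseBasis κ (κ ⊗[B] ↥(p ^ k))
    let r : ↥(p ^ k) →ₗ[B] (Module.Free.ChooseBasisIndex κ (κ ⊗[B] ↥(p ^ k))) →₀ κ :=
      (b.repr.toLinearMap.restrictScalars B) ∘ₗ TensorProduct.mk B κ ↥(p ^ k) 1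
    let φ := fun (P : Type u) [AddCommGroup P] [Module C P] [Module B P] [IsScalarTower B C P] =>
      (TensorProduct.finsuppRight B C P κ _).toLinearMap ∘ₗ
        TensorProduct.AlgebraTensorModule.lTensor C P r
    have hcoord : ∀ j, ∃ n : ℕ, f ^ n • φ M' y j = 0 := by
      intro j
      let c := fun (P : Type u) [AddCommGroup P] [Module R P] =>
        TensorProduct.AlgebraTensorModule.rightComm R B C C κ P
      obtain ⟨n, hn⟩ := h p (algebraMap C (C ⊗[B] κ) f) ((c M).symm (φ M' y j)) fun i => by
        obtain ⟨n, hn⟩ := hT i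
        refine ⟨n, ?_⟩
        have hnat : ∀ w, (u i).lTensor (C ⊗[B] κ) ((c M).symm w) =
            (c (N i)).symm (TensorProduct.map (vB i) LinearMap.id w) := by
          intro w
          induction w using TensorProduct.induction_on with
          | zero => simp
          | tmul x e =>
            induction x using TensorProduct.induction_on with
            | zero => simp
            | tmul c' m => simp [c, vB, v]
            | add a b ha hb => simp only [add_tmul, map_add, ha, hb]
          | add a b ha hb => simp only [map_add, ha, hb]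
        have hnat2 : ∀ w, TensorProduct.map (vB i) LinearMap.id (φ M' w j) =
            φ (C ⊗[R] N i) (T i w) j := by
          intro w
          induction w using TensorProduct.induction_on with
          | zero => simp
          | tmul x e => simp [φ, T, vB, v, TensorProduct.finsuppRight_apply_tmul_apply]
          | add a b ha hb => simp only [map_add, Finsupp.add_apply, ha, hb]
        rw [← map_pow, algebraMap_smul, hnat, hnat2, ← map_smul, ← Finsupp.smul_apply, ← map_smul,
          hn, map_zero, Finsupp.zero_apply, map_zero]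
      refine ⟨n, (c M).symm.injective ?_⟩
      rw [map_smul, map_zero]
      rw [← map_pow, algebraMap_smul] at hn
      exact hn
    choose n hn using hcoord
    let N₀ := (φ M' y).support.sup n
    have hφ : φ M' (f ^ N₀ • y) = 0 := by
      rw [map_smul]
      ext j
      rw [Finsupp.smul_apply, Finsupp.zero_apply]
      by_cases hj : j ∈ (φ M' y).support
      · obtain ⟨d, hd⟩ := Nat.exists_eq_add_of_le (Finset.le_sup (f := n) hj)
        rw [show N₀ = n j + d from hd, add_comm, pow_add, mul_smul, hn, smul_zero]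
      · rw [Finsupp.notMem_support_iff.1 hj, smul_zero]
    have h1 : (1 : κ) ⊗ₜ[B] (f ^ N₀ • y) = 0 := by
      let ψ : M' ⊗[B] ((Module.Free.ChooseBasisIndex κ (κ ⊗[B] ↥(p ^ k))) →₀ κ) →ₗ[B]
          κ ⊗[B] (M' ⊗[B] ↥(p ^ k)) :=
        (TensorProduct.leftComm B M' κ ↥(p ^ k)).toLinearMap ∘ₗ
          (b.repr.symm.toLinearMap.restrictScalars B).lTensor M'
      have hψ : ∀ w, ψ (TensorProduct.AlgebraTensorModule.lTensor C M' r w) = (1 : κ) ⊗ₜ[B] w := by
        intro w
        induction w using TensorProduct.induction_on with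
        | zero => simp
        | tmul x e => simp [ψ, r]
        | add a b ha hb => simp only [map_add, ha, hb, tmul_add]
      rw [← hψ]
      have h2 : TensorProduct.AlgebraTensorModule.lTensor C M' r (f ^ N₀ • y) = 0 :=
        (TensorProduct.finsuppRight B C M' κ _).injective (hφ.trans (map_zero _).symm)
      rw [h2, map_zero]
    obtain ⟨a, ha, hay⟩ := exists_smul_mem_of_residueField_tmul_eq_zero (X := M' ⊗[B] ↥(p ^ k)) p _ h1
    refine ⟨algebraMap B C a * (f ^ N₀ * g), hq.mul_notMem ha
      (hq.mul_notMem (fun hN => hfq (hq.mem_of_pow_mem _ hN)) hg), ?_⟩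
    rw [mul_smul, mul_smul, algebraMap_smul, ← hy, ← map_smul]
    have hmap : ∀ w ∈ p • (⊤ : Submodule B (M' ⊗[B] ↥(p ^ k))),
        μ M' w ∈ p ^ (k + 1) • (⊤ : Submodule B M') := by
      intro w hw
      refine Submodule.smul_induction_on (p := fun w => μ M' w ∈ p ^ (k + 1) • (⊤ : Submodule B M'))
        hw (fun a ha w hw' => ?_) fun w w' hw hw' => by rw [map_add]; exact Submodule.add_mem _ hw hw'
      clear hw'
      induction w using TensorProduct.induction_on with
      | zero => simp
      | tmul x e =>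
        rw [← tmul_smul, show μ M' (x ⊗ₜ (a • e)) = (a * (e : B)) • x by simp [μ, mul_smul]]
        refine Submodule.smul_mem_smul ?_ Submodule.mem_top
        rw [pow_succ']
        exact Ideal.mul_mem_mul ha e.2
      | add w w' hw hw' => rw [smul_add, map_add]; exact Submodule.add_mem _ hw hw'
    have h3 := hmap _ hay
    rwa [LinearMap.map_smul_of_tower] at h3

end Core

section Union

variable {A : Type u} [CommRing A] [Algebra A R] {B : Type u} [CommRing B] [Algebra A B]
  [∀ i, Module A (N i)] [∀ i, IsScalarTower A R (N i)]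

/-- Separation over `B` follows from separation over its finitely generated subalgebras. -/
theorem SepAlg.of_fg_subalgebras [∀ i, Module.Flat A (N i)]
    (h : ∀ B₀ : Subalgebra A B, B₀.FG → SepAlg u (R ⊗[A] B₀)) : SepAlg u (R ⊗[A] B) := by
  classical
  let inc (B₀ : Subalgebra A B) : R ⊗[A] B₀ →ₐ[R] R ⊗[A] B :=
    Algebra.TensorProduct.map (AlgHom.id R R) B₀.val
  have hinc : ∀ (B₀ : Subalgebra A B) (r : R) (b : B₀), inc B₀ (r ⊗ₜ b) = r ⊗ₜ[A] (b : B) :=
    fun B₀ r b => by simp [inc]
  have hmono : ∀ {B₀ B₁ : Subalgebra A B}, B₀ ≤ B₁ → ∀ w, ∃ w', inc B₁ w' = inc B₀ w := by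
    intro B₀ B₁ hle w
    induction w using TensorProduct.induction_on with
    | zero => exact ⟨0, by rw [map_zero, map_zero]⟩
    | tmul r b => exact ⟨r ⊗ₜ Subalgebra.inclusion hle b, by rw [hinc, hinc]; rfl⟩
    | add p q hp hq =>
      obtain ⟨v, hv⟩ := hp
      obtain ⟨w', hw'⟩ := hq
      exact ⟨v + w', by rw [map_add, map_add, hv, hw']⟩
  have hall : ∀ r : R ⊗[A] B, ∃ (s : Finset B) (w : R ⊗[A] Algebra.adjoin A (s : Set B)),
      inc (Algebra.adjoin A (s : Set B)) w = r := by
    intro r
    induction r using TensorProduct.induction_on with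
    | zero => exact ⟨∅, 0, by rw [map_zero]⟩
    | tmul x b => exact ⟨{b}, x ⊗ₜ ⟨b, Algebra.subset_adjoin (by simp)⟩, by rw [hinc]⟩
    | add p q hp hq =>
      obtain ⟨s, v, rfl⟩ := hp
      obtain ⟨t, w, rfl⟩ := hq
      obtain ⟨v', hv⟩ := hmono (Algebra.adjoin_mono
        (Finset.coe_subset.2 (Finset.subset_union_left (s₁ := s) (s₂ := t)))) v
      obtain ⟨w', hw⟩ := hmono (Algebra.adjoin_mono
        (Finset.coe_subset.2 (Finset.subset_union_right (s₁ := s) (s₂ := t)))) w
      exact ⟨s ∪ t, v' + w', by rw [map_add, hv, hw]⟩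
  intro f z hz
  obtain ⟨ts, hts⟩ : ∃ ts : Finset ((R ⊗[A] B) × M), z = ∑ t ∈ ts, t.1 ⊗ₜ[R] t.2 :=
    TensorProduct.exists_finset z
  choose s w hsw using hall
  let s' : Finset B := s f ∪ ts.biUnion fun t => s t.1
  let B₀ := Algebra.adjoin A (s' : Set B)
  let j := inc B₀
  have hle : ∀ r, s r ⊆ s' → ∃ v, j v = r := fun r hr => by
    obtain ⟨v, hv⟩ := hmono (Algebra.adjoin_mono (Finset.coe_subset.2 hr)) (w r)
    exact ⟨v, hv.trans (hsw r)⟩
  obtain ⟨f₀, hf₀⟩ := hle f Finset.subset_union_left
  obtain ⟨z₀, hz₀⟩ : ∃ z₀, j.toLinearMap.rTensor M z₀ = z := by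
    suffices z ∈ LinearMap.range (j.toLinearMap.rTensor M) from this
    rw [hts]
    refine Submodule.sum_mem _ fun t ht => ?_
    obtain ⟨v, hv⟩ := hle t.1 ((Finset.subset_biUnion_of_mem (fun t => s t.1) ht).trans
      Finset.subset_union_right)
    exact ⟨v ⊗ₜ t.2, by simp [← hv]⟩
  subst hz₀
  have hinj : ∀ i, Function.Injective (j.toLinearMap.rTensor (N i)) := by
    intro i
    let c := fun (D : Type u) [AddCommGroup D] [Module A D] =>
      (TensorProduct.comm R (R ⊗[A] D) (N i)).restrictScalars A ≪≫ₗ
        (TensorProduct.AlgebraTensorModule.cancelBaseChange A R R (N i) D).restrictScalars A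
    have hnat : ∀ v, c B (j.toLinearMap.rTensor (N i) v) =
        B₀.val.toLinearMap.lTensor (N i) (c B₀ v) := by
      intro v
      induction v using TensorProduct.induction_on with
      | zero => simp
      | tmul x y =>
        induction x using TensorProduct.induction_on with
        | zero => simp
        | tmul r b => simp [c, j, hinc]
        | add a b ha hb => simp only [add_tmul, map_add, ha, hb]
      | add a b ha hb => simp only [map_add, ha, hb]
    intro v v' hv
    apply (c B₀).injective
    apply Module.Flat.lTensor_preserves_injective_linearMap (M := N i) B₀.val.toLinearMap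
      Subtype.val_injective
    rw [← hnat, ← hnat, hv]
  have hsmul : ∀ (P : Type u) [AddCommGroup P] [Module R P] (r : R ⊗[A] B₀)
      (v : (R ⊗[A] B₀) ⊗[R] P),
      j.toLinearMap.rTensor P (r • v) = j r • j.toLinearMap.rTensor P v := by
    intro P _ _ r v
    induction v using TensorProduct.induction_on with
    | zero => simp
    | tmul b m => simp [smul_tmul']
    | add p q hp hq => simp [hp, hq]
  obtain ⟨n, hn⟩ := h B₀ ⟨s', rfl⟩ f₀ z₀ fun i => by
    obtain ⟨n, hn⟩ := hz i
    refine ⟨n, hinj i ?_⟩
    rw [map_zero, hsmul, map_pow, hf₀, ← LinearMap.comp_apply, LinearMap.rTensor_comp_lTensor,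
      ← LinearMap.lTensor_comp_rTensor, LinearMap.comp_apply]
    exact hn
  exact ⟨n, by rw [← hf₀, ← map_pow, ← hsmul, hn, map_zero]⟩

end Union

/-- Over a Noetherian algebra, separation on every fibre and flatness of the targets give
separation after every change of base. -/
theorem SepAlg.of_fibres {A : Type u} [CommRing A] [Algebra A R] [IsNoetherianRing R]
    [Module.Finite R M] [∀ i, Module A (N i)] [∀ i, IsScalarTower A R (N i)]
    [∀ i, Module.Flat A (N i)] (B : Type u) [CommRing B] [Algebra A B]
    (h : ∀ (L : Type u) [Field L] [Algebra A L], SepAlg u (R ⊗[A] L)) : SepAlg u (R ⊗[A] B) := by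
  refine SepAlg.of_fg_subalgebras fun B₀ hB₀ => ?_
  let _ : Algebra B₀ (R ⊗[A] B₀) := Algebra.TensorProduct.rightAlgebra
  have : Algebra.FiniteType A B₀ := (Subalgebra.fg_iff_finiteType _).1 hB₀
  have : Algebra.FiniteType R (R ⊗[A] B₀) := inferInstance
  have : IsNoetherianRing (R ⊗[A] B₀) := Algebra.FiniteType.isNoetherianRing R _
  refine SepAlg.of_fibrewise (B := B₀) (fun i => ?_) fun p _ => ?_
  · let c := (TensorProduct.comm R (R ⊗[A] B₀) (N i)).toAddEquiv.trans
      ((TensorProduct.AlgebraTensorModule.cancelBaseChange A R R (N i) B₀).toAddEquiv.trans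
        (TensorProduct.comm A (N i) B₀).toAddEquiv)
    let c' : (R ⊗[A] B₀) ⊗[R] N i ≃ₗ[B₀] B₀ ⊗[A] N i := c.toLinearEquiv fun b v => by
      induction v using TensorProduct.induction_on with
      | zero => simp
      | tmul x y =>
        induction x using TensorProduct.induction_on with
        | zero => simp
        | tmul r b' =>
          have : b • (r ⊗ₜ[A] b') = r ⊗ₜ[A] (b * b') := by
            rw [Algebra.smul_def]
            exact (Algebra.TensorProduct.tmul_mul_tmul _ _ _ _).trans (by rw [one_mul])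
          simp [smul_tmul', this, c]
        | add a b ha hb => simp only [add_tmul, smul_add, map_add, ha, hb]
      | add a b ha hb => simp only [smul_add, map_add, ha, hb]
    exact Module.Flat.of_linearEquiv c'
  · obtain ⟨e⟩ := nonempty_algEquiv_of_isPushout (R := R) (A := A) (K := B₀) (L := p.ResidueField)
      (C := R ⊗[A] B₀)
    exact (h p.ResidueField).of_algEquiv e

end Groth.EGA43Sep
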