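import Mathlib
import Groth.Agent.Calg5.SepFamily

/-!
Separating families lift along a nilpotent ideal with free graded pieces.
-/

set_option autoImplicit false
universe u

open TensorProduct

namespace Groth.EGA43Sep

variable {A : Type u} [CommRing A] {M : Type u} [AddCommGroup M] [Module A M] {ι : Type u}
  {N : ι → Type u} [∀ i, AddCommGroup (N i)] [∀ i, Module A (N i)]

theorem eq_zero_of_sep_mod_nilpotent (J : Ideal A) (hJ : IsNilpotent J)
    (hfree : ∀ k : ℕ, Module.Free (A ⧸ J) ((A ⧸ J) ⊗[A] ↥(J ^ k))) [∀ i, Module.Flat A (N i)]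
    (u : ∀ i, M →ₗ[A] N i)
    (h0 : ∀ w : (A ⧸ J) ⊗[A] M, (∀ i, (u i).baseChange (A ⧸ J) w = 0) → w = 0)
    (m : M) (hm : ∀ i, u i m = 0) : m = 0 := by
  suffices h : ∀ k : ℕ, m ∈ J ^ k • (⊤ : Submodule A M) by
    obtain ⟨n, hn⟩ := hJ
    have := h n
    rwa [hn, Ideal.zero_eq_bot, Submodule.bot_smul, Submodule.mem_bot] at this
  intro k
  induction k with
  | zero => rw [pow_zero, Ideal.one_eq_top, Submodule.top_smul]; trivial
  | succ k ih =>
    let μ : ↥(J ^ k) ⊗[A] M →ₗ[A] M :=
      TensorProduct.lift ((LinearMap.lsmul A M).comp (J ^ k).subtype)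
    obtain ⟨y, rfl⟩ : ∃ y, μ y = m := by
      refine Submodule.smul_induction_on (p := fun x => ∃ y, μ y = x) ih
        (fun r hr x _ => ⟨(⟨r, hr⟩ : ↥(J ^ k)) ⊗ₜ x, rfl⟩) ?_
      rintro _ _ ⟨a, rfl⟩ ⟨b, rfl⟩
      exact ⟨a + b, map_add _ _ _⟩
    have hy : ∀ i, (u i).lTensor ↥(J ^ k) y = 0 := by
      intro i
      have hnat : ∀ w, u i (μ w) = TensorProduct.lift
          ((LinearMap.lsmul A (N i)).comp (J ^ k).subtype) ((u i).lTensor ↥(J ^ k) w) := by
        intro w
        induction w using TensorProduct.induction_on with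
        | zero => simp
        | tmul r x => simp [μ]
        | add p q hp hq => simp [hp, hq]
      have hinj : Function.Injective (TensorProduct.lift
          ((LinearMap.lsmul A (N i)).comp (J ^ k).subtype)) := by
        have h1 : TensorProduct.lift ((LinearMap.lsmul A (N i)).comp (J ^ k).subtype) =
            (TensorProduct.lid A (N i)).toLinearMap ∘ₗ (J ^ k).subtype.rTensor (N i) :=
          TensorProduct.ext' fun r x => by simp
        rw [h1, LinearMap.coe_comp, LinearEquiv.coe_coe]
        exact (LinearEquiv.injective _).comp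
          (Module.Flat.rTensor_preserves_injective_linearMap _ Subtype.val_injective)
      apply hinj
      rw [map_zero, ← hnat, hm]
    let π : ↥(J ^ k) →ₗ[A] (A ⧸ J) ⊗[A] ↥(J ^ k) := TensorProduct.mk A (A ⧸ J) ↥(J ^ k) 1
    let c := fun (P : Type u) [AddCommGroup P] [Module A P] =>
      (TensorProduct.AlgebraTensorModule.cancelBaseChange A (A ⧸ J) (A ⧸ J)
        ((A ⧸ J) ⊗[A] ↥(J ^ k)) P).symm
    have hy0 : π.rTensor M y = 0 := by
      apply (c M).injective
      rw [map_zero]
      have := hfree k
      refine Groth.Calg5.SepFamily.eq_zero_of_lTensor_of_free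
        (fun i => (u i).baseChange (A ⧸ J)) h0 _ fun i => ?_
      have hnat : ∀ w, ((u i).baseChange (A ⧸ J)).lTensor ((A ⧸ J) ⊗[A] ↥(J ^ k)) (c M w) =
          c (N i) ((u i).lTensor _ w) := by
        intro w
        induction w using TensorProduct.induction_on with
        | zero => simp
        | tmul r x => simp [c]
        | add p q hp hq => simp [hp, hq]
      rw [hnat, ← LinearMap.comp_apply, LinearMap.lTensor_comp_rTensor,
        ← LinearMap.rTensor_comp_lTensor, LinearMap.comp_apply, hy i, map_zero, map_zero]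
    have hπ : Function.Surjective π := TensorProduct.mk_surjective A _ _ Ideal.Quotient.mk_surjective
    obtain ⟨w, rfl⟩ := (rTensor_exact M (LinearMap.exact_subtype_ker_map π) hπ y).1 hy0
    clear hy hy0 hm ih
    induction w using TensorProduct.induction_on with
    | zero => simp
    | add p q hp hq => rw [map_add, map_add]; exact Submodule.add_mem _ hp hq
    | tmul r x =>
      have hr : (r : ↥(J ^ k)) ∈ J • (⊤ : Submodule A ↥(J ^ k)) := by
        have h1 := congrArg (TensorProduct.quotTensorEquivQuotSMul ↥(J ^ k) J)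
          (show π r = 0 from r.2)
        rw [map_zero] at h1
        have h2 := (TensorProduct.quotTensorEquivQuotSMul_mk_tmul J 1 (r : ↥(J ^ k))).symm.trans h1
        rw [one_smul] at h2
        exact (Submodule.Quotient.mk_eq_zero _).1 h2
      have hr' : ((r : ↥(J ^ k)) : A) ∈ J ^ (k + 1) := by
        refine Submodule.smul_induction_on (p := fun (s : ↥(J ^ k)) => (s : A) ∈ J ^ (k + 1)) hr
          (fun a ha s _ => ?_) (fun s t hs ht => ?_)
        · rw [pow_succ']
          exact Ideal.mul_mem_mul ha s.2
        · exact Ideal.add_mem _ hs ht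
      simpa [μ] using Submodule.smul_mem_smul hr' (Submodule.mem_top (x := x))

end Groth.EGA43Sep
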